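import Mathlib.GroupTheory.Sylow
import Mathlib.GroupTheory.PGroup
import Mathlib.Algebra.Group.Subgroup.Basic
import Mathlib.Algebra.BigOperators.Group.Finset.Basic

/-!
# Coprime action on finite abelian groups: the norm map
-/

set_option autoImplicit false
set_option linter.all false

namespace H3.AbelianCoprime

/-- For a finite group `A` of automorphisms of the finite abelian group `P` with `|A|`, `|P|`
coprime, there is an endomorphism `ν` of `P` with image the fixed points of `A` and kernel the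
subgroup generated by the `x⁻¹ * a x`. -/
theorem exists_norm {P : Type*} [CommGroup P] [Finite P] (A : Subgroup (MulAut P))
    (hcop : Nat.Coprime (Nat.card A) (Nat.card P)) :
    ∃ ν : P →* P, (∀ x, x ∈ ν.range ↔ ∀ a ∈ A, a x = x) ∧
      ν.ker = Subgroup.closure {y : P | ∃ x : P, ∃ a ∈ A, y = x⁻¹ * a x} := by
  classical
  haveI : Fintype A := Fintype.ofFinite A
  let ν : P →* P :=
    { toFun := fun x => ∏ a : A, (a : MulAut P) x
      map_one' := by simp
      map_mul' := by intro x y; simp [Finset.prod_mul_distrib] }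
  have hν : ∀ x, ν x = ∏ a : A, (a : MulAut P) x := fun _ => rfl
  have hfix : ∀ x, ∀ b ∈ A, b (ν x) = ν x := by
    intro x b hb
    rw [hν, map_prod]
    refine Fintype.prod_equiv (Equiv.mulLeft (⟨b, hb⟩ : A)) _ _ ?_
    intro a
    rfl
  have hinv : ∀ x, ∀ b ∈ A, ν (b x) = ν x := by
    intro x b hb
    rw [hν, hν]
    refine Fintype.prod_equiv (Equiv.mulRight (⟨b, hb⟩ : A)) _ _ ?_
    intro a
    rfl
  have hpow : ∀ x, (∀ a ∈ A, a x = x) → ν x = x ^ Nat.card A := by
    intro x hx
    rw [hν, Finset.prod_congr rfl (fun (a : A) _ => hx a a.2), Finset.prod_const, Nat.card_eq_fintype_card,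
      Finset.card_univ]
  have hroot : ∀ x : P, ∃ k : ℕ, (x ^ k) ^ Nat.card A = x := by
    intro x
    have h1 : Nat.Coprime (orderOf x) (Nat.card A) :=
      Nat.Coprime.coprime_dvd_left (orderOf_dvd_natCard x) hcop.symm
    obtain ⟨m, hm⟩ := exists_pow_eq_self_of_coprime h1.symm
    exact ⟨m, by rw [← pow_mul, mul_comm, pow_mul]; exact hm⟩
  refine ⟨ν, ?_, ?_⟩
  · intro x
    constructor
    · rintro ⟨y, rfl⟩ a ha
      exact hfix y a ha
    · intro hx
      obtain ⟨k, hk⟩ := hroot x
      refine ⟨x ^ k, ?_⟩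
      rw [hpow, hk]
      intro a ha
      rw [map_pow, hx a ha]
  · apply le_antisymm
    · intro x hx
      rw [MonoidHom.mem_ker] at hx
      set K := Subgroup.closure {y : P | ∃ x : P, ∃ a ∈ A, y = x⁻¹ * a x} with hK
      have h1 : ∏ a : A, (x⁻¹ * (a : MulAut P) x) ∈ K := by
        apply Subgroup.prod_mem
        intro a _
        exact Subgroup.subset_closure ⟨x, a, a.2, rfl⟩
      have h2 : ∏ a : A, (x⁻¹ * (a : MulAut P) x) = (x⁻¹) ^ Nat.card A := by
        rw [Finset.prod_mul_distrib, ← hν, hx, mul_one, Finset.prod_const,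
          Nat.card_eq_fintype_card, Finset.card_univ]
      rw [h2] at h1
      obtain ⟨k, hk⟩ := hroot x⁻¹
      have h3 : ((x⁻¹) ^ k) ^ Nat.card A ∈ K := by
        rw [← pow_mul, mul_comm, pow_mul]
        exact Subgroup.pow_mem _ h1 k
      rw [hk] at h3
      exact (Subgroup.inv_mem_iff _).1 h3
    · rw [Subgroup.closure_le]
      rintro _ ⟨x, a, ha, rfl⟩
      show _ ∈ ν.ker
      rw [MonoidHom.mem_ker, map_mul, map_inv, hinv x a ha, inv_mul_cancel]

end H3.AbelianCoprime
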