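import Cfsg.Agent.Lib.H15.MH0

/-!
S4221, piece X8: from 4-transitivity in the sense of embeddings to `H15.MH.Hyp`.
-/

set_option autoImplicit false

namespace H3.MHX8

open H15.MH

theorem inj4 {α : Type*} {a b c d : α} (h : D4 a b c d) : Function.Injective (![a, b, c, d] : Fin 4 → α) := by
  obtain ⟨hab, hac, had, hbc, hbd, hcd⟩ := h
  intro i j hij
  fin_cases i <;> fin_cases j <;> simp_all [eq_comm]

/-- the embedding attached to four distinct points -/
def em {α : Type*} {a b c d : α} (h : D4 a b c d) : Fin 4 ↪ α := ⟨![a, b, c, d], inj4 h⟩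

theorem smul_em {α : Type*} {G : Subgroup (Equiv.Perm α)} {a b c d a' b' c' d' : α} (h : D4 a b c d)
    (h' : D4 a' b' c' d') (g : G) :
    g • em h = em h' ↔ g • a = a' ∧ g • b = b' ∧ g • c = c' ∧ g • d = d' := by
  constructor
  · intro hg
    have h0 : ∀ i : Fin 4, g • (em h i) = em h' i := by
      intro i
      rw [← hg]
      rfl
    exact ⟨h0 0, h0 1, h0 2, h0 3⟩
  · rintro ⟨h1, h2, h3, h4⟩
    refine Function.Embedding.ext fun i => ?_
    have h5 : (g • em h) i = g • (em h i) := rfl
    rw [h5]
    fin_cases i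
    · exact h1
    · exact h2
    · exact h3
    · exact h4

theorem hyp_of {α : Type*} [Fintype α] [DecidableEq α] (G : Subgroup (Equiv.Perm α))
    (hG : MulAction.IsMultiplyPretransitive G α 4) (x : Fin 4 ↪ α)
    (hodd : Odd (Nat.card (MulAction.stabilizer G x))) : H15.MH.Hyp G α := by
  refine ⟨?_, ?_⟩
  · intro a b c d a' b' c' d' h h'
    obtain ⟨g, hg⟩ := hG.exists_smul_eq (em h) (em h')
    exact ⟨g, (smul_em h h' g).1 hg⟩
  · intro a b c d h g ha hb hc hd
    obtain ⟨k, hk⟩ := hG.exists_smul_eq (em h) x
    have hgx : k * g * k⁻¹ ∈ MulAction.stabilizer G x := by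
      rw [MulAction.mem_stabilizer_iff]
      refine Function.Embedding.ext fun i => ?_
      have h6 : k • (em h i) = x i := by rw [← hk]; rfl
      have h7 : g • (em h i) = em h i := by
        fin_cases i
        · exact ha
        · exact hb
        · exact hc
        · exact hd
      have h8 : (k * g * k⁻¹) • (x i) = x i := by
        rw [← h6, mul_smul, mul_smul, inv_smul_smul, h7]
      exact h8
    have h2 : orderOf (k * g * k⁻¹) = orderOf g := by
      have := (MulAut.conj k).orderOf_eq g
      simpa using this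
    have h3 : orderOf (k * g * k⁻¹) ∣ Nat.card (MulAction.stabilizer G x) := by
      have h4 := orderOf_dvd_natCard (⟨k * g * k⁻¹, hgx⟩ : MulAction.stabilizer G x)
      rwa [Subgroup.orderOf_mk] at h4
    rw [h2] at h3
    exact Odd.of_dvd_nat hodd h3

end H3.MHX8
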