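import Cfsg.Agent.Lib.H3.MaxClassP
import Cfsg.Agent.Lib.H76.MaxClass

/-!
# 2-groups of maximal class
-/

set_option autoImplicit false
set_option linter.all false

open scoped commutatorElement

namespace H3.MaxClass2

open H3.PBasic

variable {X : Type*} [Group X] [Finite X]

/-- Structure of a 2-group of order `2 ^ n` with `|X : X'| = 4`. -/
theorem exists_structure {n : ℕ} (hn : 3 ≤ n) (hX : Nat.card X = 2 ^ n) (hab : (commutator X).index = 4) :
    ∃ a t : X, orderOf a = 2 ^ (n - 1) ∧ (Subgroup.zpowers a).index = 2 ∧ t ∉ Subgroup.zpowers a ∧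
      (∀ t' ∉ Subgroup.zpowers a, Subgroup.zpowers a ⊓ Subgroup.centralizer {t'} = Subgroup.center X) ∧
      Nat.card (Subgroup.center X) = 2 ∧ t * a * t⁻¹ * a ∈ Subgroup.center X ∧ t ^ 2 ∈ Subgroup.center X := by
  haveI : Fact (Nat.Prime 2) := ⟨Nat.prime_two⟩
  have hG : IsPGroup 2 X := IsPGroup.of_card hX
  haveI := hG.isNilpotent
  obtain ⟨m, rfl⟩ := Nat.exists_eq_add_of_le hn
  obtain ⟨a, k, hak, hidx⟩ := H76.MaxClass.exists_cyclic_index_two m X (by rw [hX]; congr 1; omega) hab
  have hcard := Subgroup.card_mul_index (Subgroup.zpowers a)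
  rw [hidx, Nat.card_zpowers, hak, hX, ← pow_succ] at hcard
  have hkm := Nat.pow_right_injective (le_refl 2) hcard
  have hkm : m = k := by omega
  subst hkm
  have hAn : (Subgroup.zpowers a).Normal := Subgroup.normal_of_index_eq_two hidx
  have hAc : ∀ x ∈ Subgroup.zpowers a, ∀ y ∈ Subgroup.zpowers a, x * y = y * x := by
    intro x hx y hy
    obtain ⟨i, rfl⟩ := Subgroup.mem_zpowers_iff.1 hx
    obtain ⟨j, rfl⟩ := Subgroup.mem_zpowers_iff.1 hy
    exact ((Commute.refl a).zpow_zpow i j).eq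
  have hlt : (Subgroup.zpowers a) < ⊤ := by
    rw [lt_top_iff_ne_top]
    intro h
    rw [h, Subgroup.index_top] at hidx
    omega
  obtain ⟨t, -, ht⟩ := SetLike.exists_of_lt hlt
  have hnt : Nontrivial X := by
    rw [← Finite.one_lt_card_iff_nontrivial, hX]
    exact Nat.one_lt_two_pow (by omega)
  have hZne : Subgroup.center X ≠ ⊥ := Group.IsNilpotent.center_ne_bot X
  have hZ2 : 2 ∣ Nat.card (Subgroup.center X) := by
    obtain ⟨m, hm⟩ := (hG.to_subgroup (Subgroup.center X)).exists_card_eq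
    rw [hm]
    apply dvd_pow_self
    rintro rfl
    rw [pow_zero] at hm
    exact hZne (Subgroup.card_eq_one.1 hm)
  have hcen : ∀ t' ∉ Subgroup.zpowers a, Subgroup.zpowers a ⊓ Subgroup.centralizer {t'} ≤ Subgroup.center X := by
    intro t' ht' x hx
    -- `X = A ∪ t' A`
    have hsup : Subgroup.zpowers a ⊔ Subgroup.zpowers t' = ⊤ := by
      have h1 := Subgroup.relIndex_mul_index (show Subgroup.zpowers a ≤ Subgroup.zpowers a ⊔ Subgroup.zpowers t' from le_sup_left)
      rw [hidx] at h1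
      have h2 : (Subgroup.zpowers a).relIndex (Subgroup.zpowers a ⊔ Subgroup.zpowers t') ≠ 1 := by
        intro h
        exact ht' (Subgroup.relIndex_eq_one.1 h (Subgroup.mem_sup_right (Subgroup.mem_zpowers t')))
      rcases (Nat.dvd_prime Nat.prime_two).1 (Dvd.intro _ h1) with h3 | h3
      · exact absurd h3 h2
      · rw [h3] at h1
        exact Subgroup.index_eq_one.1 (by omega)
    have h3 : (⊤ : Subgroup X) ≤ Subgroup.centralizer {x} := by
      rw [← hsup, sup_le_iff, Subgroup.zpowers_le, Subgroup.zpowers_le]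
      constructor
      · rw [Subgroup.mem_centralizer_singleton_iff]
        exact hAc a (Subgroup.mem_zpowers a) x hx.1
      · rw [Subgroup.mem_centralizer_singleton_iff]
        have := Subgroup.mem_centralizer_singleton_iff.1 hx.2
        exact this.symm
    rw [Subgroup.mem_center_iff]
    intro g
    exact Subgroup.mem_centralizer_singleton_iff.1 (h3 (Subgroup.mem_top g))
  have hZA : Subgroup.center X ≤ Subgroup.zpowers a := by
    intro z hz
    by_contra hzA
    -- then `A ≤ C(z)`, so `|A| ≤ 2`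
    have h1 := H76.MaxClass.card_centralizer_le_two (Subgroup.zpowers a) hAc hidx hab z hzA
    have h2 : Subgroup.zpowers a ⊓ Subgroup.centralizer {z} = Subgroup.zpowers a := by
      rw [inf_eq_left]
      intro y _
      rw [Subgroup.mem_centralizer_singleton_iff]
      exact (Subgroup.mem_center_iff.1 hz y)
    rw [h2, Nat.card_zpowers, hak] at h1
    have : 2 ^ 2 ≤ 2 ^ (m + 2) := Nat.pow_le_pow_right (by norm_num) (by omega)
    omega
  have hcen' : ∀ t' ∉ Subgroup.zpowers a, Subgroup.zpowers a ⊓ Subgroup.centralizer {t'} = Subgroup.center X := by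
    intro t' ht'
    apply le_antisymm (hcen t' ht')
    intro z hz
    refine ⟨hZA hz, ?_⟩
    show z ∈ Subgroup.centralizer {t'}
    rw [Subgroup.mem_centralizer_singleton_iff]
    exact (Subgroup.mem_center_iff.1 hz t').symm
  have hZc : Nat.card (Subgroup.center X) = 2 := by
    have h1 := H76.MaxClass.card_centralizer_le_two (Subgroup.zpowers a) hAc hidx hab t ht
    rw [hcen' t ht] at h1
    exact le_antisymm h1 (Nat.le_of_dvd Nat.card_pos hZ2)
  have ht2 : t ^ 2 ∈ Subgroup.zpowers a := by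
    have := Subgroup.pow_index_mem (Subgroup.zpowers a) t
    rwa [hidx] at this
  refine ⟨a, t, by rw [hak]; congr 1; omega, hidx, ht, hcen', hZc, ?_, ?_⟩
  · rw [← hcen' t ht]
    refine ⟨Subgroup.mul_mem _ (hAn.conj_mem a (Subgroup.mem_zpowers a) t) (Subgroup.mem_zpowers a), ?_⟩
    show _ ∈ Subgroup.centralizer {t}
    rw [Subgroup.mem_centralizer_singleton_iff]
    have h1 : t ^ 2 * a = a * t ^ 2 := hAc _ ht2 a (Subgroup.mem_zpowers a)
    have h2 : t * a * t⁻¹ * a = a * (t * a * t⁻¹) :=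
      hAc _ (hAn.conj_mem a (Subgroup.mem_zpowers a) t) a (Subgroup.mem_zpowers a)
    calc t * a * t⁻¹ * a * t = a * (t * a * t⁻¹) * t := by rw [h2]
      _ = a * t * a := by group
      _ = a * t ^ 2 * (t⁻¹ * a) := by group
      _ = t ^ 2 * a * (t⁻¹ * a) := by rw [h1]
      _ = t * (t * a * t⁻¹ * a) := by rw [sq]; group
  · rw [← hcen' t ht]
    refine ⟨ht2, ?_⟩
    show _ ∈ Subgroup.centralizer {t}
    rw [Subgroup.mem_centralizer_singleton_iff]
    group

theorem quotient_center {n : ℕ} (hn : 3 ≤ n) (hX : Nat.card X = 2 ^ n) (hab : (commutator X).index = 4) :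
    Nonempty (X ⧸ Subgroup.center X ≃* DihedralGroup (2 ^ (n - 2))) := by
  obtain ⟨a, t, ha, hidx, ht, hcen, hZ, h1, h2⟩ := exists_structure hn hX hab
  haveI : Fact (Nat.Prime 2) := ⟨Nat.prime_two⟩
  set f := QuotientGroup.mk' (Subgroup.center X) with hf
  have hfs : Function.Surjective f := QuotientGroup.mk'_surjective _
  have hZA : Subgroup.center X ≤ Subgroup.zpowers a := by
    rw [← hcen t ht]; exact inf_le_left
  have hmap : Subgroup.zpowers (f a) = (Subgroup.zpowers a).map f := by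
    rw [MonoidHom.map_zpowers]
  have hcomap : (Subgroup.zpowers (f a)).comap f = Subgroup.zpowers a := by
    rw [hmap, Subgroup.comap_map_eq, hf, QuotientGroup.ker_mk', sup_eq_left]
    exact hZA
  have hidx' : (Subgroup.zpowers (f a)).index = 2 := by
    rw [← Subgroup.index_comap_of_surjective _ hfs, hcomap, hidx]
  have hq : Nat.card (X ⧸ Subgroup.center X) = 2 ^ (n - 1) := by
    have h3 := Subgroup.card_mul_index (Subgroup.center X)
    rw [hZ, hX, Subgroup.index_eq_card] at h3
    have h4 : 2 ^ n = 2 * 2 ^ (n - 1) := by rw [← pow_succ']; congr 1; omega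
    omega
  have hord : orderOf (f a) = 2 ^ (n - 2) := by
    have h3 := Subgroup.card_mul_index (Subgroup.zpowers (f a))
    rw [hidx', hq, Nat.card_zpowers] at h3
    have h4 : 2 ^ (n - 1) = 2 ^ (n - 2) * 2 := by rw [← pow_succ]; congr 1; omega
    omega
  have hker : ∀ x : X, f x = 1 ↔ x ∈ Subgroup.center X := fun x => QuotientGroup.eq_one_iff x
  haveI : NeZero (2 ^ (n - 2)) := ⟨by positivity⟩
  refine H76.MaxClass.dihedral_of (f a) (f t) hord ?_ ?_ ?_ hidx'
  · rw [eq_inv_iff_mul_eq_one, ← map_mul, ← map_inv, ← map_mul, ← map_mul, hker]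
    exact h1
  · rw [← map_pow, hker]; exact h2
  · intro h
    apply ht
    rw [← hcomap]
    exact h

/-- Klein four abelianization for maximal class. -/
theorem isKleinFour {n : ℕ} (hn : 3 ≤ n) (hX : Nat.card X = 2 ^ n) (hab : (commutator X).index = 4) :
    IsKleinFour (X ⧸ commutator X) := by
  haveI : Fact (Nat.Prime 2) := ⟨Nat.prime_two⟩
  have hG : IsPGroup 2 X := IsPGroup.of_card hX
  have h4 : Nat.card (X ⧸ commutator X) = 4 := by rw [← Subgroup.index_eq_card, hab]
  refine ⟨h4, ?_⟩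
  have hsq : ∀ x : X, x ^ 2 ∈ commutator X := by
    intro x
    by_contra hx
    have h1 : orderOf (QuotientGroup.mk' (commutator X) x) = 2 ^ 2 := by
      apply orderOf_eq_prime_pow
      · intro h2
        apply hx
        rw [← map_pow, pow_one] at h2
        exact (QuotientGroup.eq_one_iff _).1 h2
      · rw [show (2 : ℕ) ^ (1 + 1) = Nat.card (X ⧸ commutator X) by rw [h4]; norm_num]
        exact pow_card_eq_one'
    have h2 : Subgroup.zpowers (QuotientGroup.mk' (commutator X) x) = ⊤ := by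
      apply Subgroup.eq_top_of_card_eq
      rw [Nat.card_zpowers, h1, h4]
      norm_num
    have h3 : Subgroup.zpowers x ⊔ commutator X = ⊤ := by
      have h5 : ((Subgroup.zpowers x).map (QuotientGroup.mk' (commutator X))).comap
          (QuotientGroup.mk' (commutator X)) = ⊤ := by
        rw [MonoidHom.map_zpowers, h2, Subgroup.comap_top]
      rwa [Subgroup.comap_map_eq, QuotientGroup.ker_mk'] at h5
    have h5 : Subgroup.zpowers x ⊔ frattini X = ⊤ := by
      rw [eq_top_iff, ← h3]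
      exact sup_le_sup_left (commutator_le_frattini hG) _
    have h6 : Subgroup.zpowers x = ⊤ := frattini_nongenerating h5
    have h7 : commutator X = ⊥ := by
      rw [commutator_def, Subgroup.commutator_eq_bot_iff_le_centralizer, ← h6,
        Subgroup.zpowers_le, Subgroup.mem_centralizer_iff]
      intro h hh
      obtain ⟨i, rfl⟩ := Subgroup.mem_zpowers_iff.1 hh
      exact ((Commute.refl x).zpow_left i).eq
    rw [h7, Subgroup.index_bot, hX] at hab
    have : 2 ^ 3 ≤ 2 ^ n := Nat.pow_le_pow_right (by norm_num) hn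
    omega
  -- exponent
  have hd : Monoid.exponent (X ⧸ commutator X) ∣ 2 := by
    rw [Monoid.exponent_dvd_iff_forall_pow_eq_one]
    intro q
    induction q using QuotientGroup.induction_on with
    | H x =>
      rw [← QuotientGroup.mk_pow]
      exact (QuotientGroup.eq_one_iff _).2 (hsq x)
  rcases (Nat.dvd_prime Nat.prime_two).1 hd with h | h
  · exfalso
    have := Monoid.exp_eq_one_iff.1 h
    have h5 : Nat.card (X ⧸ commutator X) = 1 := Nat.card_eq_one_iff_unique.2 ⟨this, ⟨1⟩⟩
    omega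
  · exact h

/-- `|X : X'| = 4` implies maximal class. -/
theorem nilpotencyClass_eq {n : ℕ} (hn : 3 ≤ n) (hX : Nat.card X = 2 ^ n) (hab : (commutator X).index = 4) :
    Group.nilpotencyClass X = n - 1 := by
  haveI : Fact (Nat.Prime 2) := ⟨Nat.prime_two⟩
  have hG : IsPGroup 2 X := IsPGroup.of_card hX
  haveI := hG.isNilpotent
  apply le_antisymm (H3.MaxClassP.nilpotencyClass_le (by omega) hX)
  obtain ⟨a, t, ha, hidx, ht, hcen, hZ, h1, h2⟩ := exists_structure hn hX hab
  have hAn : (Subgroup.zpowers a).Normal := Subgroup.normal_of_index_eq_two hidx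
  -- the lower central series contains `a ^ (2 ^ i) z` for central `z`
  have key : ∀ i : ℕ, ∃ c ∈ Subgroup.center X, a ^ (2 ^ i) * c ∈ (⊤ : Subgroup X).lowerCentralSeries i := by
    intro i
    induction i with
    | zero => exact ⟨1, Subgroup.one_mem _, by simp⟩
    | succ i ih =>
      obtain ⟨c, hc, hmem⟩ := ih
      -- `t a t⁻¹ = z a⁻¹`
      have h3 : ∀ j : ℕ, ∃ d ∈ Subgroup.center X, t * a ^ j * t⁻¹ = (a ^ j)⁻¹ * d := by
        intro j
        refine ⟨(t * a * t⁻¹ * a) ^ j, Subgroup.pow_mem _ h1 j, ?_⟩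
        have h4 : t * a * t⁻¹ = a⁻¹ * (t * a * t⁻¹ * a) := by
          rw [← (Subgroup.mem_center_iff.1 h1 a⁻¹).symm]; group
        have h5 : Commute a⁻¹ (t * a * t⁻¹ * a) := Subgroup.mem_center_iff.1 h1 a⁻¹
        calc t * a ^ j * t⁻¹ = (t * a * t⁻¹) ^ j := by rw [conj_pow]
          _ = (a⁻¹ * (t * a * t⁻¹ * a)) ^ j := by rw [← h4]
          _ = (a⁻¹) ^ j * (t * a * t⁻¹ * a) ^ j := h5.mul_pow j
          _ = _ := by rw [inv_pow]
      obtain ⟨d, hd, h4⟩ := h3 (2 ^ i)
      have h5 : ⁅a ^ 2 ^ i * c, t⁆ ∈ (⊤ : Subgroup X).lowerCentralSeries (i + 1) := by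
        rw [Subgroup.lowerCentralSeries_succ]
        exact Subgroup.commutator_mem_commutator hmem (Subgroup.mem_top t)
      refine ⟨d⁻¹, Subgroup.inv_mem _ hd, ?_⟩
      have hcc : ∀ g, g * c = c * g := Subgroup.mem_center_iff.1 hc
      have hdd : ∀ g, g * d = d * g := Subgroup.mem_center_iff.1 hd
      have h6 : ⁅a ^ 2 ^ i * c, t⁆ = a ^ 2 ^ (i + 1) * d⁻¹ := by
        rw [commutatorElement_def]
        have e1 : t * (a ^ 2 ^ i)⁻¹ * t⁻¹ = d⁻¹ * a ^ 2 ^ i := by
          have : t * (a ^ 2 ^ i)⁻¹ * t⁻¹ = (t * a ^ 2 ^ i * t⁻¹)⁻¹ := by group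
          rw [this, h4]; group
        calc a ^ 2 ^ i * c * t * (a ^ 2 ^ i * c)⁻¹ * t⁻¹
            = a ^ 2 ^ i * (c * (t * c⁻¹)) * (a ^ 2 ^ i)⁻¹ * t⁻¹ := by group
          _ = a ^ 2 ^ i * (c * (c⁻¹ * t)) * (a ^ 2 ^ i)⁻¹ * t⁻¹ := by
              have : t * c⁻¹ = c⁻¹ * t := (Commute.inv_right (show Commute t c from hcc t)).eq
              rw [this]
          _ = a ^ 2 ^ i * (t * (a ^ 2 ^ i)⁻¹ * t⁻¹) := by group
          _ = a ^ 2 ^ i * (d⁻¹ * a ^ 2 ^ i) := by rw [e1]
          _ = a ^ 2 ^ i * (a ^ 2 ^ i * d⁻¹) := by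
              have : d⁻¹ * a ^ 2 ^ i = a ^ 2 ^ i * d⁻¹ :=
                (Commute.inv_left (show Commute d (a ^ 2 ^ i) from (hdd _).symm)).eq
              rw [this]
          _ = _ := by rw [pow_succ, mul_two, pow_add]; group
      rw [← h6]
      exact h5
  by_contra hlt
  push Not at hlt
  obtain ⟨c, hc, hmem⟩ := key (n - 3)
  have h3 : (⊤ : Subgroup X).lowerCentralSeries (n - 3 + 1) = ⊥ :=
    Subgroup.lowerCentralSeries_eq_bot_iff_nilpotencyClass_le.2 (by omega)
  rw [Subgroup.lowerCentralSeries_succ, Subgroup.commutator_eq_bot_iff_le_centralizer,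
    Subgroup.coe_top, Subgroup.centralizer_univ] at h3
  have h4 : a ^ 2 ^ (n - 3) ∈ Subgroup.center X := by
    have := Subgroup.mul_mem _ (h3 hmem) (Subgroup.inv_mem _ hc)
    rwa [mul_inv_cancel_right] at this
  have h55 : ∀ y : Subgroup.center X, y ^ 2 = 1 := by
    intro y
    have := pow_card_eq_one' (x := y)
    rwa [hZ] at this
  have h5 := h55 ⟨a ^ 2 ^ (n - 3), h4⟩
  have h6 : (a ^ 2 ^ (n - 3)) ^ 2 = 1 := congrArg Subtype.val h5
  rw [← pow_mul, ← pow_succ] at h6
  have h7 := orderOf_dvd_of_pow_eq_one h6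
  rw [ha] at h7
  have h8 := (Nat.pow_dvd_pow_iff_le_right (le_refl 2)).1 h7
  omega

end H3.MaxClass2
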