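import Mathlib
import Cfsg.Agent.Lib.H10.Dihedral

/-!
S3330, DICH: lifting facts modulo a central subgroup of order two.
-/

set_option autoImplicit false

namespace H3.RDich

open Subgroup

section gen

variable {C : Type*} [Group C] {T : Subgroup C} [T.Normal] {τ : C} {D : Subgroup C}

theorem lift_eq (hT : ∀ x ∈ T, x = 1 ∨ x = τ) (hτ2 : τ * τ = 1) (hτc : ∀ g, g * τ = τ * g) {a b : C}
    (ha : a ^ 3 = 1) (hb : b ^ 3 = 1) (h : QuotientGroup.mk' T a = QuotientGroup.mk' T b) : a = b := by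
  have h1 : a⁻¹ * b ∈ T := QuotientGroup.eq.1 h
  rcases hT _ h1 with h2 | h2
  · rw [inv_mul_eq_one] at h2; exact h2
  · have h3 : b = a * τ := by rw [← h2]; group
    have h4 : b ^ 3 = τ := by
      rw [h3, (show Commute a τ from hτc a).mul_pow, ha, one_mul, pow_succ, pow_two, hτ2, one_mul]
    rw [hb] at h4
    rw [h3, ← h4, mul_one]

/-- an element commuting modulo `T` with an element of order 3 commutes with it -/
theorem lift_comm (hT : ∀ x ∈ T, x = 1 ∨ x = τ) (hτ2 : τ * τ = 1) (hτc : ∀ g, g * τ = τ * g) {a g : C}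
    (ha : a ^ 3 = 1) (h : QuotientGroup.mk' T g * QuotientGroup.mk' T a = QuotientGroup.mk' T a * QuotientGroup.mk' T g) :
    g * a = a * g := by
  have h1 : QuotientGroup.mk' T (g * a * g⁻¹) = QuotientGroup.mk' T a := by
    rw [map_mul, map_mul, h, mul_assoc, ← map_mul, mul_inv_cancel, map_one, mul_one]
  have h2 : (g * a * g⁻¹) ^ 3 = 1 := by rw [conj_pow, ha]; group
  have h3 := lift_eq hT hτ2 hτc h2 ha h1
  exact (mul_inv_eq_iff_eq_mul.1 h3)

theorem norm_lift (hT : ∀ x ∈ T, x = 1 ∨ x = τ) (hτ2 : τ * τ = 1) (hτc : ∀ g, g * τ = τ * g)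
    (hD3 : ∀ d ∈ D, d ^ 3 = 1) (g : C) :
    QuotientGroup.mk' T g ∈ normalizer ((D.map (QuotientGroup.mk' T) : Subgroup (C ⧸ T)) : Set (C ⧸ T)) ↔
      g ∈ normalizer (D : Set C) := by
  have key : ∀ g : C, QuotientGroup.mk' T g ∈ normalizer ((D.map (QuotientGroup.mk' T) : Subgroup (C ⧸ T)) : Set (C ⧸ T)) →
      ∀ d ∈ D, g * d * g⁻¹ ∈ D := by
    intro g hg d hd
    have h1 := (mem_normalizer_iff.1 hg (QuotientGroup.mk' T d)).1 (mem_map_of_mem _ hd)
    rw [← map_mul, ← map_inv, ← map_mul] at h1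
    obtain ⟨d', hd', hdd⟩ := h1
    have h2 : (g * d * g⁻¹) ^ 3 = 1 := by rw [conj_pow, hD3 d hd]; group
    have h3 := lift_eq hT hτ2 hτc (hD3 d' hd') h2 hdd
    rw [← h3]; exact hd'
  constructor
  · intro hg
    rw [mem_normalizer_iff]
    intro x
    constructor
    · exact key g hg x
    · intro hx
      have h1 : QuotientGroup.mk' T g⁻¹ ∈ normalizer ((D.map (QuotientGroup.mk' T) : Subgroup (C ⧸ T)) : Set (C ⧸ T)) := by
        rw [map_inv]; exact inv_mem hg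
      have h2 := key g⁻¹ h1 _ hx
      have h3 : g⁻¹ * (g * x * g⁻¹) * g⁻¹⁻¹ = x := by group
      rwa [h3] at h2
  · intro hg
    have key2 : ∀ g ∈ normalizer (D : Set C), ∀ y ∈ D.map (QuotientGroup.mk' T),
        QuotientGroup.mk' T g * y * (QuotientGroup.mk' T g)⁻¹ ∈ D.map (QuotientGroup.mk' T) := by
      rintro g hg _ ⟨d, hd, rfl⟩
      rw [← map_mul, ← map_inv, ← map_mul]
      exact mem_map_of_mem _ ((mem_normalizer_iff.1 hg d).1 hd)
    rw [mem_normalizer_iff]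
    intro y
    constructor
    · exact key2 g hg y
    · intro hy
      have h2 := key2 g⁻¹ (inv_mem hg) _ hy
      have h3 : QuotientGroup.mk' T g⁻¹ * (QuotientGroup.mk' T g * y * (QuotientGroup.mk' T g)⁻¹) * (QuotientGroup.mk' T g⁻¹)⁻¹ = y := by
        rw [map_inv]; group
      rwa [h3] at h2

theorem cent_lift (hT : ∀ x ∈ T, x = 1 ∨ x = τ) (hτ2 : τ * τ = 1) (hτc : ∀ g, g * τ = τ * g) (hτT : τ ∈ T)
    (hDab : ∀ a ∈ D, ∀ b ∈ D, a * b = b * a) (hD3 : ∀ d ∈ D, d ^ 3 = 1)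
    (hcD : ∀ g, (∀ d ∈ D, g * d = d * g) → g ∈ D ∨ g * τ ∈ D) (g : C) :
    QuotientGroup.mk' T g ∈ D.map (QuotientGroup.mk' T) ↔ ∀ d ∈ D, g * d = d * g := by
  constructor
  · rintro ⟨d', hd', h1⟩ d hd
    apply lift_comm hT hτ2 hτc (hD3 d hd)
    rw [← h1, ← map_mul, ← map_mul, hDab d' hd' d hd]
  · intro h
    rcases hcD g h with h1 | h1
    · exact mem_map_of_mem _ h1
    · refine ⟨g * τ, h1, ?_⟩
      rw [map_mul, (QuotientGroup.eq_one_iff (N := T) τ).2 hτT |> fun h => (h : QuotientGroup.mk' T τ = 1), mul_one]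

theorem centralizer_map (hT : ∀ x ∈ T, x = 1 ∨ x = τ) (hτ2 : τ * τ = 1) (hτc : ∀ g, g * τ = τ * g) (hτT : τ ∈ T)
    (hDab : ∀ a ∈ D, ∀ b ∈ D, a * b = b * a) (hD3 : ∀ d ∈ D, d ^ 3 = 1)
    (hcD : ∀ g, (∀ d ∈ D, g * d = d * g) → g ∈ D ∨ g * τ ∈ D) :
    centralizer ((D.map (QuotientGroup.mk' T) : Subgroup (C ⧸ T)) : Set (C ⧸ T)) = D.map (QuotientGroup.mk' T) := by
  ext y
  obtain ⟨g, rfl⟩ := QuotientGroup.mk'_surjective T y
  rw [cent_lift hT hτ2 hτc hτT hDab hD3 hcD, mem_centralizer_iff]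
  constructor
  · intro h d hd
    exact lift_comm hT hτ2 hτc (hD3 d hd) (h _ (mem_map_of_mem _ hd)).symm
  · rintro h _ ⟨d, hd, rfl⟩
    rw [← map_mul, ← map_mul, h d hd]

/-- the automizer is dihedral of order 8 -/
theorem dihedral [Finite C] (hT : ∀ x ∈ T, x = 1 ∨ x = τ) (hτ2 : τ * τ = 1) (hτc : ∀ g, g * τ = τ * g) (hτT : τ ∈ T)
    (hDab : ∀ a ∈ D, ∀ b ∈ D, a * b = b * a) (hD3 : ∀ d ∈ D, d ^ 3 = 1)
    (hcD : ∀ g, (∀ d ∈ D, g * d = d * g) → g ∈ D ∨ g * τ ∈ D)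
    (hcard : Nat.card (normalizer (D : Set C)) = 144) (hc18 : Nat.card (centralizer (D : Set C)) = 18)
    {r s : C} (hr : r ∈ normalizer (D : Set C)) (hs : s ∈ normalizer (D : Set C)) (hrr : r * r = 1) (hss : s * s = 1)
    (h4 : ∀ d ∈ D, (r * s) ^ 4 * d = d * (r * s) ^ 4) (h2 : ¬ ∀ d ∈ D, (r * s) ^ 2 * d = d * (r * s) ^ 2) :
    Nonempty (normalizer ((D.map (QuotientGroup.mk' T) : Subgroup (C ⧸ T)) : Set (C ⧸ T)) ⧸
      (D.map (QuotientGroup.mk' T)).subgroupOf (normalizer ((D.map (QuotientGroup.mk' T) : Subgroup (C ⧸ T)) : Set (C ⧸ T))) ≃*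
      DihedralGroup 4) := by
  classical
  obtain ⟨Db, hDb⟩ : ∃ Db : Subgroup (C ⧸ T), Db = D.map (QuotientGroup.mk' T) := ⟨_, rfl⟩
  have hnl := norm_lift (T := T) (D := D) hT hτ2 hτc hD3
  have hcl := cent_lift (T := T) (D := D) hT hτ2 hτc hτT hDab hD3 hcD
  rw [← hDb] at hnl hcl ⊢
  let φ₀ : normalizer (D : Set C) →* normalizer (Db : Set (C ⧸ T)) :=
    ((QuotientGroup.mk' T).comp (normalizer (D : Set C)).subtype).codRestrict _ (fun x => (hnl x).2 x.2)
  let φ : normalizer (D : Set C) →* normalizer (Db : Set (C ⧸ T)) ⧸ Db.subgroupOf (normalizer (Db : Set (C ⧸ T))) :=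
    (QuotientGroup.mk' _).comp φ₀
  have hφs : Function.Surjective φ := by
    intro y
    obtain ⟨y, rfl⟩ := QuotientGroup.mk'_surjective _ y
    obtain ⟨y, hy⟩ := y
    obtain ⟨g, rfl⟩ := QuotientGroup.mk'_surjective T y
    exact ⟨⟨g, (hnl g).1 hy⟩, rfl⟩
  have hφk : ∀ x : normalizer (D : Set C), φ x = 1 ↔ ∀ d ∈ D, (x : C) * d = d * (x : C) := by
    intro x
    rw [← hcl]
    have h5 : φ x = QuotientGroup.mk' _ (φ₀ x) := rfl
    rw [h5]
    constructor
    · intro h6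
      exact Subgroup.mem_subgroupOf.1 ((QuotientGroup.eq_one_iff (N := Db.subgroupOf (normalizer (Db : Set (C ⧸ T)))) (φ₀ x)).1 h6)
    · intro h6
      exact (QuotientGroup.eq_one_iff (N := Db.subgroupOf (normalizer (Db : Set (C ⧸ T)))) (φ₀ x)).2 (Subgroup.mem_subgroupOf.2 h6)
  have hker : Nat.card φ.ker = 18 := by
    rw [← hc18]
    refine Nat.card_congr ⟨fun x => ⟨(x : normalizer (D : Set C)), ?_⟩, fun x => ⟨⟨x, ?_⟩, ?_⟩, fun x => rfl, fun x => rfl⟩
    · rw [mem_centralizer_iff]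
      intro d hd
      exact ((hφk x.1).1 (MonoidHom.mem_ker.1 x.2) d hd).symm
    · rw [mem_normalizer_iff]
      have hx : ∀ d ∈ D, (x : C) * d * (x : C)⁻¹ = d := by
        intro d hd
        rw [mul_inv_eq_iff_eq_mul]
        exact ((mem_centralizer_iff.1 x.2) d hd).symm
      intro d
      constructor
      · intro hd; rw [hx d hd]; exact hd
      · intro hd
        have h6 := hx _ hd
        have h7 : (x : C) * d * (x : C)⁻¹ = d := mul_left_cancel (mul_right_cancel h6)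
        rw [h7] at hd; exact hd
    · rw [MonoidHom.mem_ker, hφk]
      intro d hd
      exact ((mem_centralizer_iff.1 x.2) d hd).symm
  have hQ : Nat.card (normalizer (Db : Set (C ⧸ T)) ⧸ Db.subgroupOf (normalizer (Db : Set (C ⧸ T)))) = 8 := by
    have h5 := Subgroup.card_eq_card_quotient_mul_card_subgroup φ.ker
    rw [hcard, hker, Nat.card_congr (QuotientGroup.quotientKerEquivOfSurjective φ hφs).toEquiv] at h5
    omega
  obtain ⟨R, hR⟩ : ∃ R, R = φ ⟨r, hr⟩ := ⟨_, rfl⟩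
  obtain ⟨S, hS⟩ : ∃ S, S = φ ⟨s, hs⟩ := ⟨_, rfl⟩
  have hRR : R * R = 1 := by
    rw [hR, ← map_mul]
    have : (⟨r, hr⟩ * ⟨r, hr⟩ : normalizer (D : Set C)) = 1 := Subtype.ext hrr
    rw [this, map_one]
  have hSS : S * S = 1 := by
    rw [hS, ← map_mul]
    have : (⟨s, hs⟩ * ⟨s, hs⟩ : normalizer (D : Set C)) = 1 := Subtype.ext hss
    rw [this, map_one]
  have hRS : orderOf (R * S) = 4 := by
    have h5 : orderOf (R * S) = 2 ^ (1 + 1) := by
      refine orderOf_eq_prime_pow ?_ ?_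
      · rw [hR, hS, ← map_mul, ← map_pow, hφk]
        exact h2
      · rw [hR, hS, ← map_mul, ← map_pow, hφk]
        exact h4
    rw [h5]
    norm_num
  obtain ⟨e⟩ := H10.Dihedral.closure_pair_mulEquiv R S hRR hSS (by omega)
  rw [hRS] at e
  have htop : Subgroup.closure ({R, S} : Set _) = ⊤ := by
    apply Subgroup.eq_top_of_card_eq
    rw [Nat.card_congr e.toEquiv, DihedralGroup.nat_card, hQ]
  refine ⟨?_⟩
  have e2 := Subgroup.topEquiv.symm.trans ((MulEquiv.subgroupCongr htop.symm).trans e)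
  exact e2

end gen

end H3.RDich
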