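import Mathlib
import Cfsg.Agent.Lib.H54.RA0
import Cfsg.Agent.Lib.H3.RDichA

/-!
S3330, DICH: the concrete facts.
-/

set_option autoImplicit false
set_option maxRecDepth 100000

namespace H3.RDich

open Equiv Subgroup H54.RA

theorem dc3 : ∀ a : Perm (Fin 3), a * c3 = c3 * a → ∃ i : Fin 3, a = c3 ^ (i:ℕ) := by decide +kernel
theorem dd5 : ∀ b : Perm (Fin 5), b * d5 = d5 * b → (∃ j : Fin 3, b = d5 ^ (j:ℕ)) ∨ (∃ j : Fin 3, b * t5 = d5 ^ (j:ℕ)) := by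
  decide +kernel
theorem d18 : Fintype.card {k : PP // k * ((c3, 1) : PP) = (c3, 1) * k ∧ k * ((1, d5) : PP) = (1, d5) * k} = 18 := by
  decide +kernel
theorem dn5 : ∀ b : Perm (Fin 5), b * t5 = t5 * b → b * d5 * b⁻¹ = d5 ∨ b * d5 * b⁻¹ = d5⁻¹ := by decide +kernel
theorem tt5 : t5 * t5 = 1 := by decide +kernel
theorem t51 : t5 ≠ 1 := by decide +kernel
theorem c33 : c3 ^ 3 = 1 := by decide +kernel
theorem d53 : d5 ^ 3 = 1 := by decide +kernel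
theorem c31 : c3 ≠ 1 := by decide +kernel
theorem c3i : c3 * c3 ≠ 1 := by decide +kernel
theorem dt5 : d5 * t5 = t5 * d5 := by decide +kernel
theorem rc3 : (swap 0 1 : Perm (Fin 3)) * c3 * (swap 0 1)⁻¹ = c3⁻¹ := by decide +kernel
theorem rr3 : (swap 0 1 : Perm (Fin 3)) * swap 0 1 = 1 := by decide +kernel
theorem ed5 : (swap 1 2 : Perm (Fin 5)) * d5 * (swap 1 2)⁻¹ = d5⁻¹ := by decide +kernel
theorem et5 : (swap 1 2 : Perm (Fin 5)) * t5 = t5 * swap 1 2 := by decide +kernel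

variable {G : Type*} [Group G] {ψ : PP →* G} {n : G}

theorem psi_comm {a b : PP} (h : a * b = b * a) : ψ a * ψ b = ψ b * ψ a := by rw [← map_mul, h, map_mul]

theorem zw : ψ (c3, 1) * ψ (1, d5) = ψ (1, d5) * ψ (c3, 1) := psi_comm (by ext <;> simp)
theorem zt : ψ (c3, 1) * ψ (1, t5) = ψ (1, t5) * ψ (c3, 1) := psi_comm (by ext <;> simp)
theorem wt : ψ (1, d5) * ψ (1, t5) = ψ (1, t5) * ψ (1, d5) := psi_comm (by rw [Prod.mk_mul_mk, Prod.mk_mul_mk, dt5])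
theorem tt : ψ (1, t5) * ψ (1, t5) = 1 := by
  rw [← map_mul, Prod.mk_mul_mk, tt5, one_mul]; exact map_one ψ
theorem z3 : ψ (c3, 1) ^ 3 = 1 := by
  rw [← map_pow, Prod.pow_mk, c33, one_pow]; exact map_one ψ
theorem w3 : ψ (1, d5) ^ 3 = 1 := by
  rw [← map_pow, Prod.pow_mk, d53, one_pow]; exact map_one ψ

theorem mem_DD {g : G} : g ∈ DD ψ ↔ ∃ i j : ℤ, g = ψ (c3, 1) ^ i * ψ (1, d5) ^ j := by
  constructor
  · intro hg
    have hle : DD ψ ≤ (zpowers (ψ (c3, 1)) ⊔ zpowers (ψ (1, d5))) := le_refl _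
    refine Subgroup.closure_induction (p := fun g _ => ∃ i j : ℤ, g = ψ (c3, 1) ^ i * ψ (1, d5) ^ j)
      (k := ({ψ (c3, 1), ψ (1, d5)} : Set G)) ?_ ?_ ?_ ?_ ?_
    · rintro x (rfl | rfl)
      · exact ⟨1, 0, by simp⟩
      · exact ⟨0, 1, by simp⟩
    · exact ⟨0, 0, by simp⟩
    · rintro x y - - ⟨i, j, rfl⟩ ⟨k, l, rfl⟩
      refine ⟨i + k, j + l, ?_⟩
      have h1 : ψ (1, d5) ^ j * ψ (c3, 1) ^ k = ψ (c3, 1) ^ k * ψ (1, d5) ^ j :=
        (((show Commute (ψ (c3, 1)) (ψ (1, d5)) from zw).zpow_left k).zpow_right j).symm.eq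
      calc ψ (c3, 1) ^ i * ψ (1, d5) ^ j * (ψ (c3, 1) ^ k * ψ (1, d5) ^ l)
          = ψ (c3, 1) ^ i * (ψ (1, d5) ^ j * ψ (c3, 1) ^ k) * ψ (1, d5) ^ l := by group
        _ = ψ (c3, 1) ^ i * (ψ (c3, 1) ^ k * ψ (1, d5) ^ j) * ψ (1, d5) ^ l := by rw [h1]
        _ = _ := by rw [zpow_add, zpow_add]; group
    · rintro x - ⟨i, j, rfl⟩
      refine ⟨-i, -j, ?_⟩
      have h1 : ψ (1, d5) ^ (-j) * ψ (c3, 1) ^ (-i) = ψ (c3, 1) ^ (-i) * ψ (1, d5) ^ (-j) :=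
        (((show Commute (ψ (c3, 1)) (ψ (1, d5)) from zw).zpow_left (-i)).zpow_right (-j)).symm.eq
      rw [mul_inv_rev, ← zpow_neg, ← zpow_neg, h1]
    · have h1 : Subgroup.closure ({ψ (c3, 1), ψ (1, d5)} : Set G) = DD ψ := by
        unfold DD
        rw [Subgroup.zpowers_eq_closure, Subgroup.zpowers_eq_closure, ← Subgroup.closure_union]
        rfl
      rw [h1]; exact hg
  · rintro ⟨i, j, rfl⟩
    exact mul_mem (mem_sup_left (zpow_mem (mem_zpowers _) i)) (mem_sup_right (zpow_mem (mem_zpowers _) j))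

theorem comm_DD {g : G} (h1 : g * ψ (c3, 1) = ψ (c3, 1) * g) (h2 : g * ψ (1, d5) = ψ (1, d5) * g) :
    ∀ d ∈ DD ψ, g * d = d * g := by
  intro d hd
  obtain ⟨i, j, rfl⟩ := mem_DD.1 hd
  exact (((show Commute g _ from h1).zpow_right i).mul_right ((show Commute g _ from h2).zpow_right j)).eq

theorem zD : ψ (c3, 1) ∈ DD ψ := mem_sup_left (mem_zpowers _)
theorem wD : ψ (1, d5) ∈ DD ψ := mem_sup_right (mem_zpowers _)

theorem DD_comm : ∀ a ∈ DD ψ, ∀ b ∈ DD ψ, a * b = b * a := by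
  intro a ha b hb
  obtain ⟨i, j, rfl⟩ := mem_DD.1 ha
  refine comm_DD ?_ ?_ b hb
  · exact (((Commute.refl (ψ (c3, 1))).zpow_left i).mul_left ((show Commute (ψ (1, d5)) (ψ (c3, 1)) from zw.symm).zpow_left j)).eq
  · exact (((show Commute (ψ (c3, 1)) (ψ (1, d5)) from zw).zpow_left i).mul_left ((Commute.refl (ψ (1, d5))).zpow_left j)).eq

theorem DD_three : ∀ d ∈ DD ψ, d ^ 3 = 1 := by
  intro d hd
  obtain ⟨i, j, rfl⟩ := mem_DD.1 hd
  have h1 : Commute (ψ (c3, 1) ^ i) (ψ (1, d5) ^ j) :=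
    ((show Commute (ψ (c3, 1)) (ψ (1, d5)) from zw).zpow_left i).zpow_right j
  rw [h1.mul_pow, ← zpow_natCast, ← zpow_natCast, ← zpow_mul, ← zpow_mul, mul_comm i, mul_comm j, zpow_mul, zpow_mul,
    zpow_natCast, zpow_natCast, z3, w3, one_zpow, one_zpow, one_mul]

theorem DD_t : ∀ d ∈ DD ψ, ψ (1, t5) * d = d * ψ (1, t5) := comm_DD zt.symm wt.symm

/-- normalizing: the images of the two generators are in `D` (finite order) -/
theorem norm_of [Finite G] {g : G} (h1 : g * ψ (c3, 1) * g⁻¹ ∈ DD ψ) (h2 : g * ψ (1, d5) * g⁻¹ ∈ DD ψ) :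
    g ∈ normalizer (DD ψ : Set G) := by
  have h3 : ∀ d ∈ DD ψ, g * d * g⁻¹ ∈ DD ψ := by
    intro d hd
    obtain ⟨i, j, rfl⟩ := mem_DD.1 hd
    have h4 : g * (ψ (c3, 1) ^ i * ψ (1, d5) ^ j) * g⁻¹ = (g * ψ (c3, 1) * g⁻¹) ^ i * (g * ψ (1, d5) * g⁻¹) ^ j := by
      rw [conj_zpow, conj_zpow]; group
    rw [h4]
    exact mul_mem (zpow_mem h1 i) (zpow_mem h2 j)
  rw [mem_normalizer_iff]
  intro x
  refine ⟨h3 x, fun hx => ?_⟩
  have h5 : (DD ψ).map (MulAut.conj g).toMonoidHom = DD ψ := by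
    apply Subgroup.eq_of_le_of_card_ge
    · rintro _ ⟨d, hd, rfl⟩
      exact h3 d hd
    · rw [Subgroup.card_map_of_injective (MulAut.conj g).injective]
  have h6 : g * x * g⁻¹ ∈ (DD ψ).map (MulAut.conj g).toMonoidHom := by rw [h5]; exact hx
  obtain ⟨d, hd, hdx⟩ := h6
  have h7 : d = x := (MulAut.conj g).injective hdx
  rw [← h7]; exact hd

/-- centralizer of `D` -/
theorem cent_D (h : RD ψ n) {g : G} (h1 : g * ψ (c3, 1) = ψ (c3, 1) * g) (h2 : g * ψ (1, d5) = ψ (1, d5) * g) :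
    g ∈ DD ψ ∨ g * ψ (1, t5) ∈ DD ψ := by
  have hn : g ∈ normalizer (zpowers (ψ (c3, 1)) : Set G) := by
    rw [mem_normalizer_iff]
    intro x
    constructor
    · rintro ⟨i, rfl⟩
      refine ⟨i, ?_⟩
      show ψ (c3, 1) ^ i = g * ψ (c3, 1) ^ i * g⁻¹
      rw [((show Commute g _ from h1).zpow_right i).eq]; group
    · rintro ⟨i, hi⟩
      refine ⟨i, ?_⟩
      have hi' : ψ (c3, 1) ^ i = g * x * g⁻¹ := hi
      show ψ (c3, 1) ^ i = x
      have h3 := ((show Commute g _ from h1).zpow_right i).eq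
      rw [hi'] at h3
      have h4 : g * (g * x * g⁻¹) * g⁻¹ = g * x * g⁻¹ := by rw [h3]; group
      rw [hi']
      exact mul_left_cancel (mul_right_cancel h4)
  obtain ⟨k, rfl⟩ := h.rng g hn
  rw [← map_mul, ← map_mul] at h1 h2
  have h1' := congrArg Prod.fst (h.inj h1)
  have h2' := congrArg Prod.snd (h.inj h2)
  simp only [Prod.fst_mul, Prod.snd_mul] at h1' h2'
  obtain ⟨i, hi⟩ := dc3 _ h1'
  rcases dd5 _ h2' with ⟨j, hj⟩ | ⟨j, hj⟩
  · left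
    refine mem_DD.2 ⟨(i : ℕ), (j : ℕ), ?_⟩
    rw [zpow_natCast, zpow_natCast, ← map_pow, ← map_pow, ← map_mul]
    congr 1
    refine Prod.ext ?_ ?_
    · simp [hi]
    · simp [hj]
  · right
    refine mem_DD.2 ⟨(i : ℕ), (j : ℕ), ?_⟩
    rw [zpow_natCast, zpow_natCast, ← map_pow, ← map_pow, ← map_mul, ← map_mul]
    congr 1
    refine Prod.ext ?_ ?_
    · simp [hi]
    · simp [hj]

end H3.RDich
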