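import Cfsg.Agent.Lib.H3.PBasic
import Mathlib.GroupTheory.Transfer

/-!
# Intersections of Sylow subgroups with normal subgroups; central Sylow subgroups
-/

set_option autoImplicit false
set_option linter.all false

namespace H3.SylowInf

variable {G : Type*} [Group G] [Finite G]

theorem relIndex_eq_relIndex_sup (H K : Subgroup G) [K.Normal] :
    H.relIndex K = H.relIndex (H ⊔ K) := by
  have h1 := H3.PBasic.card_sup_mul_card_inf H K
  have h2 := H3.PBasic.card_mul_relIndex (H := H) (K := H ⊔ K) le_sup_left
  have h3 := H3.PBasic.card_mul_relIndex (H := H ⊓ K) (K := K) inf_le_right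
  rw [Subgroup.inf_relIndex_right] at h3
  rw [← h2, ← h3] at h1
  have h4 : 0 < Nat.card H := Nat.card_pos
  have h5 : 0 < Nat.card (H ⊓ K : Subgroup G) := Nat.card_pos
  have h6 : Nat.card H * Nat.card (H ⊓ K : Subgroup G) * H.relIndex (H ⊔ K) =
      Nat.card H * Nat.card (H ⊓ K : Subgroup G) * H.relIndex K := by
    calc _ = Nat.card H * H.relIndex (H ⊔ K) * Nat.card (H ⊓ K : Subgroup G) := by ring
      _ = Nat.card H * (Nat.card (H ⊓ K : Subgroup G) * H.relIndex K) := h1
      _ = _ := by ring
  exact (Nat.eq_of_mul_eq_mul_left (Nat.mul_pos h4 h5) h6).symm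

variable {p : ℕ} [hp : Fact p.Prime]

theorem not_dvd_relIndex (P : Sylow p G) (K : Subgroup G) [K.Normal] :
    ¬ p ∣ (P : Subgroup G).relIndex K := by
  rw [relIndex_eq_relIndex_sup]
  intro h
  exact P.not_dvd_index (h.trans (Subgroup.relIndex_dvd_index_of_le le_sup_left))

/-- A `p`-subgroup of index prime to `p` is (the underlying subgroup of) a Sylow subgroup. -/
theorem exists_sylow_eq {Q : Subgroup G} (hQ : IsPGroup p Q) (hi : ¬ p ∣ Q.index) :
    ∃ P : Sylow p G, (P : Subgroup G) = Q :=
  ⟨hQ.toSylow hi, rfl⟩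

/-- The intersection of a Sylow subgroup with a normal subgroup is a Sylow subgroup of the latter. -/
theorem exists_sylow_inf (P : Sylow p G) (K : Subgroup G) [K.Normal] :
    ∃ Q : Sylow p K, (Q : Subgroup K) = (P : Subgroup G).subgroupOf K := by
  apply exists_sylow_eq
  · exact P.isPGroup'.comap_subtype
  · exact not_dvd_relIndex P K

/-- The same for a subgroup `K` normalised by `N ≥ P`. -/
theorem exists_sylow_inf_of_le (P : Sylow p G) (N K : Subgroup G) (hPN : (P : Subgroup G) ≤ N)
    (hKN : K ≤ N) (hnorm : N ≤ Subgroup.normalizer (K : Set G)) :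
    ∃ Q : Sylow p K, (Q : Subgroup K) = (P : Subgroup G).subgroupOf K := by
  apply exists_sylow_eq
  · exact P.isPGroup'.comap_subtype
  · haveI : (K.subgroupOf N).Normal := Subgroup.normal_subgroupOf_of_le_normalizer hnorm
    have h := not_dvd_relIndex (P.subtype hPN) (K.subgroupOf N)
    rw [Sylow.coe_subtype, Subgroup.relIndex_subgroupOf hKN] at h
    exact h

/-- A finite group with a central Sylow subgroup is the product with its normal complement. -/
theorem exists_complement_of_le_center (P : Sylow p G) (hP : (P : Subgroup G) ≤ Subgroup.center G) :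
    ∃ H : Subgroup G, H.Normal ∧ H.IsComplement' (P : Subgroup G) := by
  have h1 : Subgroup.normalizer ((P : Subgroup G) : Set G) ≤ Subgroup.centralizer ((P : Subgroup G) : Set G) := by
    intro g _
    rw [Subgroup.mem_centralizer_iff]
    intro x hx
    exact ((Subgroup.mem_center_iff.1 (hP hx)) g).symm
  exact ⟨(MonoidHom.transferSylow P h1).ker, inferInstance, MonoidHom.ker_transferSylow_isComplement' P h1⟩

end H3.SylowInf
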